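import Cfsg.Agent.H492.OZ.Rat
import Cfsg.Agent.H153.Dl.RowFi22
import Cfsg.Agent.H559.FiSpec
import Cfsg.Agent.H730.OZ.Asm

/-!
# S4842: the row `Fi22` (helper492)
-/

set_option autoImplicit false
set_option maxRecDepth 100000

open Cfsg Cfsg.Agent.Characters Cfsg.Agent.H732.VZ Cfsg.Agent.H604.OZ Cfsg.Agent.H153.Dl
open Cfsg.Agent.Lib.PermNetPt

namespace Cfsg.Agent.H492.OZ.FiA

open Cfsg.Spor (Fi22)
open Cfsg.Spor.Fi22 (Gen)

universe u

/-- a word conjugating the element of order 9 to its square -/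
def w : List Gen := [.c, .d, .h, .d, .e, .f, .c, .d, .e, .b, .c, .d, .h, .f, .a, .b, .c, .d, .e, .a, .b, .c,
  .d, .c, .a, .b]

theorem w_ok : R22.chkEq (w ++ F22.xw) (PR.rep 2 F22.xw ++ w) = true := by decide +kernel

/-- the element of order 9 -/
noncomputable def y : Fi22 := F22.D.x

theorem y_pow : y ^ 9 = 1 := Fi22Row.x_pow

theorem y_sq : IsConj y (y ^ 2) := by
  refine isConj_iff.2 ⟨R22.word w, ?_⟩
  have h2 : R22.word w * y = y ^ 2 * R22.word w :=
    (R22.word_append w F22.xw).symm.trans ((R22.word_eq_of w_ok).trans ((R22.word_append _ w).trans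
      (congrArg (fun t : Fi22 => t * R22.word w) (R22.word_rep 2 F22.xw))))
  rw [h2, mul_inv_cancel_right]

theorem y_rat {m : ℕ} (hm : m.Coprime (Nat.card Fi22)) : IsConj (y ^ m) y := by
  refine rat_of_two y_pow y_sq (by norm_num) (by decide) ?_
  have h3 : (3 : ℕ) ∣ Nat.card Fi22 := by rw [Fi22Row.card]; norm_num
  have h9 : Nat.Coprime m 3 := Nat.Coprime.coprime_dvd_right h3 hm
  exact Nat.Coprime.pow_right 2 h9

theorem y_cent : cent y = 27 := Fi22Row.card_x

theorem y_order : orderOf y = 9 := Fi22Row.order_x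

/-- the degrees left by the sieve -/
def D : List ℕ := [12, 27, 40, 64, 66, 90, 144, 220, 324, 352, 480, 495, 729, 768,
  792, 1080, 1728, 1782, 2430, 2560, 2640, 3888, 4096, 4224, 5760, 5940, 8748, 9216,
  9504, 12960, 13365, 14080, 20736, 21384, 22528, 29160, 30720, 31680, 46656, 48114, 49152, 50688,
  65610, 69120, 71280, 104976, 110592, 114048, 155520, 160380, 163840, 168960, 248832, 256608, 270336, 349920,
  360855, 368640, 380160, 559872, 577368, 589824, 608256, 829440, 855360, 901120, 1327104, 1368576, 1866240, 1924560,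
  2027520, 2985984]

theorem key : ∀ d ∈ D, (d % 11 = 1 ∨ d % 11 = 10) →
    (d % 3 = 0 → (d ^ 2 - 1) % 7 = 0 ∧ (d ^ 2 - 1) % 11 = 0 ∧ (d ^ 2 - 1) % 13 = 0 ∧ (d ^ 2 - 1) % 25 = 0) →
    False := by
  decide +kernel

theorem row_fi22' : H730.OZ.Row Fi22 := by
  have hN : Nat.card Fi22 = 64561751654400 := Fi22Row.card
  have iso : Spor.IsoFi22 Fi22 := ⟨MulEquiv.refl _⟩
  have hs : IsSimpleGroup Fi22 := Fischer.Fi22Order.isSimple
  refine row_of fun χ x h => ?_
  have h4 : 4 ≤ cent x := four_le_cent h (by rw [hN]; norm_num) (by rw [hN]; norm_num)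
  have hiso : ∀ r ∈ [13], charDegree (χ : Fi22 → ℂ) % r = 0 ∨
      charDegree (χ : Fi22 → ℂ) % r = 1 ∨ charDegree (χ : Fi22 → ℂ) % r = r - 1 := by
    intro r hr
    simp only [List.mem_cons, List.not_mem_nil, or_false] at hr
    subst hr
    exact H672.OZ.iso_mod h (by norm_num) (by norm_num) (by rw [hN]; norm_num) (by rw [hN]; norm_num)
      (by rw [hN]; norm_num) (fun z hz => H559.FiSpec.cent13 iso hz) h4
  have hm := H672.OZ.mem_of_sieve h hN (l := [(2,17),(3,9),(5,2),(7,1),(11,1),(13,1)])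
    (by decide +kernel)
    (by
      intro x hx
      simp only [List.mem_cons, List.not_mem_nil, or_false] at hx
      rcases hx with rfl | rfl | rfl | rfl | rfl | rfl <;> norm_num)
    (by decide +kernel) h4 hiso (D := D) (by decide +kernel)
  have T : ∀ r : ℕ, r.Prime → r ∣ 64561751654400 → ¬ r ^ 2 ∣ 64561751654400 → r < cent x →
      (charDegree (χ : Fi22 → ℂ) ^ 2 - 1) % r = 0 := fun r hr h1 h2 h3 =>
    mod_sq h hr (by rw [hN]; exact h1) (by rw [hN]; exact h2) h3
  refine key _ hm ?_ ?_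
  · have hp : Nat.Prime 11 := by norm_num
    have := Fact.mk hp
    obtain ⟨z, hz⟩ := exists_prime_orderOf_dvd_card' (G := Fi22) 11 (by rw [hN]; norm_num)
    have hC := H559.FiSpec.cent11 iso hz
    have hx : ¬ 11 ∣ orderOf x := by
      rcases Nat.lt_or_ge 11 (cent x) with h5 | h5
      · exact H733.OZ.not_dvd_orderOf h (r := 11) (n := 1) hp (by rw [hN]; norm_num) (by rw [hN]; norm_num)
          (by rwa [pow_one])
      · exact H849.OZ.not_dvd_of_le hp (by rw [hN]; norm_num) hz (by rw [hC]; norm_num) h5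
    exact H849.OZ.mod_of_two hp (by norm_num) (by rw [hN]; norm_num) (by rw [hN]; norm_num) hz (by rw [hC]) h hx h4
  · intro h3
    have hc : IsConj x y := conj_of_dvd h Nat.prime_three (Nat.dvd_of_mod_eq_zero h3) ⟨2, y_order⟩
      (fun m hm => y_rat hm) (lt_of_le_of_lt y_cent.le (by norm_num)) h4
    have h27 : cent x = 27 := (H672.OZ.cent_eq_of_conj hc).trans y_cent
    refine ⟨T 7 (by norm_num) (by norm_num) (by norm_num) (by omega),
      T 11 (by norm_num) (by norm_num) (by norm_num) (by omega),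
      T 13 (by norm_num) (by norm_num) (by norm_num) (by omega), ?_⟩
    have h5 := H733.OZ.pow_dvd h (r := 5) (n := 2) (by norm_num) (by rw [hN]; norm_num) (by rw [hN]; norm_num)
      (by rw [h27]; norm_num)
    exact Nat.mod_eq_zero_of_dvd h5

/-- **`Fi22`.** -/
theorem row_fi22 {S : Type u} [Group S] [Finite S] (_hs : IsSimpleGroup S) (h : Spor.IsoFi22 S) :
    H730.OZ.Row S := by
  obtain ⟨e⟩ := h
  exact H730.OZ.Row.congr e row_fi22'

end Cfsg.Agent.H492.OZ.FiA
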