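import Cfsg.Agent.H492.OZ.Rat
import Cfsg.Agent.H153.Dl.D23.D
import Cfsg.Agent.H980.PwFi23
import Cfsg.Agent.H730.OZ.Asm

/-!
# S4842: the row `Fi23` (helper492)
-/

set_option autoImplicit false
set_option maxRecDepth 100000

open Cfsg Cfsg.Agent.Characters Cfsg.Agent.H732.VZ Cfsg.Agent.H604.OZ Cfsg.Agent.H153.Dl
open Cfsg.Agent.Lib.PermNetPt

namespace Cfsg.Agent.H492.OZ.FiB

open Cfsg.Spor (Fi23)

universe u

/-- a word conjugating the element of order 27 to its square -/
def w : List LThreeFi23.Lt := [.j, .e, .a, .b, .c, .d, .h, .i, .d, .e, .b, .c, .d, .h, .f, .g, .d, .e, .f, .c, .d, .e,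
  .b, .c, .d, .h, .i, .e, .f, .d, .e, .b, .c, .d, .h, .a, .b, .c, .d, .e, .f, .g, .j, .i,
  .h, .f, .g, .e, .f, .d, .e, .c, .d, .h, .i, .b, .c, .d, .h, .e, .f, .d, .e, .a, .b, .c,
  .d, .h, .i, .h, .d, .e, .f, .c, .d, .e, .b, .c, .d, .h, .g, .f, .e, .d, .b, .c, .h, .d,
  .e, .f, .c, .b, .a, .d, .c, .b, .h, .d, .c, .e, .d, .i, .h, .i, .d, .e, .c, .d, .h, .b,
  .c, .d, .a, .b, .c, .h, .g, .c, .b, .a, .d, .c, .b, .e, .d, .c, .f, .e, .d, .h, .d, .e,
  .f, .c, .d, .e, .b, .c, .d, .a, .b, .c, .i, .f, .a, .c, .b, .a, .d, .c, .b, .h, .d, .c,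
  .e, .d, .h, .c, .d, .e, .b, .c, .d, .a, .b, .c, .a, .b, .d, .h, .e]

theorem w_ok : R23.chkEq (w ++ D23.xw) (PR.rep 2 D23.xw ++ w) = true := by decide +kernel

theorem y_pow' : R23.chkEq (PR.rep 27 D23.xw) [] = true := by decide +kernel

/-- the element of order 27 -/
noncomputable def y : Fi23 := D23.D.x

theorem y_pow : y ^ 27 = 1 :=
  (R23.word_rep 27 D23.xw).symm.trans ((R23.word_eq_of y_pow').trans R23.word_nil)

theorem y_sq : IsConj y (y ^ 2) := by
  refine isConj_iff.2 ⟨R23.word w, ?_⟩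
  have h2 : R23.word w * y = y ^ 2 * R23.word w :=
    (R23.word_append w D23.xw).symm.trans ((R23.word_eq_of w_ok).trans ((R23.word_append _ w).trans
      (congrArg (fun t : Fi23 => t * R23.word w) (R23.word_rep 2 D23.xw))))
  rw [h2, mul_inv_cancel_right]

theorem y_rat {m : ℕ} (hm : m.Coprime (Nat.card Fi23)) : IsConj (y ^ m) y := by
  refine rat_of_two y_pow y_sq (by norm_num) (by decide) ?_
  have h3 : (3 : ℕ) ∣ Nat.card Fi23 := by rw [H980.PwFi23.card_fi23]; norm_num
  have h27 : Nat.Coprime m 3 := Nat.Coprime.coprime_dvd_right h3 hm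
  exact Nat.Coprime.pow_right 3 h27

theorem y_cent : cent y ≤ 27 := D23.card_le

/-! ### Two elements of order divisible by 7 -/

theorem rho_pt {l : List R23.Lt} {a b : ℕ} (h : chkPt (R23.nw l) a b = true) : R23.rho (R23.word l) a = b := by
  have h1 := chkPt_spec (R23.wok l) h
  rw [R23.rho_word]
  exact h1

theorem y_pt : chkPt (R23.nw (PR.rep 9 D23.xw)) 28390 (R23.pn .a) = true := by decide +kernel

theorem pn_ne' : R23.pn .a ≠ 28390 := by decide

theorem y_order : orderOf y = 27 := by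
  have hf : Fact (Nat.Prime 3) := ⟨Nat.prime_three⟩
  refine orderOf_eq_prime_pow (p := 3) (n := 2) ?_ y_pow
  intro h
  have h1 := rho_pt y_pt
  have h2 : R23.word (PR.rep 9 D23.xw) = 1 := (R23.word_rep 9 D23.xw).trans h
  rw [h2, map_one, Equiv.Perm.one_apply] at h1
  exact pn_ne' h1.symm

theorem g_pow' : R23.chkEq (PR.rep 7 [.a, .b, .c, .d, .e, .f]) [] = true := by decide +kernel

theorem g_pt : chkPt (R23.nw [.a, .b, .c, .d, .e, .f]) (R23.pn .a) (R23.pn .b) = true := by decide +kernel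

theorem hi_pt : chkPt (R23.nw [.h, .i]) (R23.pn .h) (R23.pn .i) = true := by decide +kernel

theorem h_pt : chkPt (R23.nw [.h]) (R23.pn .h) (R23.pn .h) = true := by decide +kernel

theorem i_pow' : R23.chkEq (PR.rep 2 [.i]) [] = true := by decide +kernel

theorem comm' : R23.chkEq ([.a, .b, .c, .d, .e, .f] ++ [.i]) ([.i] ++ [.a, .b, .c, .d, .e, .f]) = true := by
  decide +kernel

theorem pn_ne : R23.pn .a ≠ R23.pn .b ∧ R23.pn .h ≠ R23.pn .i := ⟨by decide, by decide⟩

/-- an element of order 7 -/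
noncomputable def g : Fi23 := R23.word [.a, .b, .c, .d, .e, .f]

/-- an involution -/
noncomputable def i : Fi23 := R23.word [.i]

theorem g_order : orderOf g = 7 := by
  have hf : Fact (Nat.Prime 7) := ⟨by norm_num⟩
  refine orderOf_eq_prime ?_ ?_
  · exact (R23.word_rep 7 _).symm.trans ((R23.word_eq_of g_pow').trans R23.word_nil)
  · intro h
    have h1 := rho_pt g_pt
    have h2 : R23.rho (R23.word [.a, .b, .c, .d, .e, .f]) = 1 := by
      have h3 : R23.word [.a, .b, .c, .d, .e, .f] = 1 := h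
      rw [h3, map_one]
    rw [h2, Equiv.Perm.one_apply] at h1
    exact pn_ne.1 h1

theorem i_order : orderOf i = 2 := by
  have hf : Fact (Nat.Prime 2) := ⟨by norm_num⟩
  refine orderOf_eq_prime ?_ ?_
  · exact (R23.word_rep 2 _).symm.trans ((R23.word_eq_of i_pow').trans R23.word_nil)
  · intro h
    have h1 := rho_pt hi_pt
    have h2 : R23.word [.h, .i] = R23.word [.h] := by
      have h3 : R23.word ([.h] ++ [.i]) = R23.word [.h] * R23.word [.i] := R23.word_append _ _
      have h4 : R23.word [.i] = 1 := h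
      rw [h4, mul_one] at h3
      exact h3
    rw [h2, rho_pt h_pt] at h1
    exact pn_ne.2 h1

theorem gi_order : orderOf (g * i) = 14 := by
  have hc : Commute g i := R23.comm_of comm'
  rw [hc.orderOf_mul_eq_mul_orderOf_of_coprime (by rw [g_order, i_order]; norm_num), g_order, i_order]

/-! ### The row -/

/-- the degrees left by the sieve -/
def D : List ℕ := [68, 459, 1632, 1701, 3060, 10880, 11016, 11340, 20655, 21504, 39168, 73440, 74358, 93312, 139264,
  143360, 261120, 264384, 495720, 622080, 940032, 1179648, 1762560, 1784592, 3342336, 3346110, 6266880, 6345216,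
  11897280, 12045996, 22560768, 42301440, 42830208, 80306640, 150405120, 152285184, 158723712, 285534720, 289103904]

theorem key : ∀ d ∈ D, d % 7 ≠ 0 →
    (d % 3 = 0 → (d ^ 2 - 1) % 7 = 0 ∧ (d ^ 2 - 1) % 11 = 0 ∧ (d ^ 2 - 1) % 13 = 0 ∧ (d ^ 2 - 1) % 17 = 0 ∧
      (d ^ 2 - 1) % 23 = 0) →
    (d % 17 = 0 → (d ^ 2 - 1) % 7 = 0 ∧ (d ^ 2 - 1) % 11 = 0 ∧ (d ^ 2 - 1) % 13 = 0) → False := by
  decide +kernel

theorem row_fi23' : H730.OZ.Row Fi23 := by
  have hN : Nat.card Fi23 = 4089470473293004800 := H980.PwFi23.card_fi23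
  have hs : IsSimpleGroup Fi23 := H980.PwFi23.simple
  have hfin : Finite Fi23 := H980.PwFi23.finite
  refine row_of fun χ x h => ?_
  have h4 : 4 ≤ cent x := four_le_cent h (by rw [hN]; norm_num) (by rw [hN]; norm_num)
  have c17 : ∀ z : Fi23, orderOf z = 17 → Nat.card (Subgroup.centralizer ({z} : Set Fi23)) = 17 := fun z hz => by
    rw [← H836.Main.centralizer_zpowers]
    exact (H980.PwFi23.cent17 hz).1
  have c23 : ∀ z : Fi23, orderOf z = 23 → Nat.card (Subgroup.centralizer ({z} : Set Fi23)) = 23 := fun z hz => by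
    rw [← H836.Main.centralizer_zpowers]
    exact (H980.PwFi23.cent23 hz).1
  have hiso : ∀ r ∈ [17, 23], charDegree (χ : Fi23 → ℂ) % r = 0 ∨
      charDegree (χ : Fi23 → ℂ) % r = 1 ∨ charDegree (χ : Fi23 → ℂ) % r = r - 1 := by
    intro r hr
    simp only [List.mem_cons, List.not_mem_nil, or_false] at hr
    rcases hr with rfl | rfl
    · exact H672.OZ.iso_mod h (by norm_num) (by norm_num) (by rw [hN]; norm_num) (by rw [hN]; norm_num)
        (by rw [hN]; norm_num) c17 h4
    · exact H672.OZ.iso_mod h (by norm_num) (by norm_num) (by rw [hN]; norm_num) (by rw [hN]; norm_num)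
        (by rw [hN]; norm_num) c23 h4
  have hm := H672.OZ.mem_of_sieve h hN (l := [(2,18),(3,13),(5,2),(7,1),(11,1),(13,1),(17,1),(23,1)])
    (by decide +kernel)
    (by
      intro x hx
      simp only [List.mem_cons, List.not_mem_nil, or_false] at hx
      rcases hx with rfl | rfl | rfl | rfl | rfl | rfl | rfl | rfl <;> norm_num)
    (by decide +kernel) h4 hiso (D := D) (by decide +kernel)
  have T : ∀ r : ℕ, r.Prime → r ∣ 4089470473293004800 → ¬ r ^ 2 ∣ 4089470473293004800 → r < cent x →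
      (charDegree (χ : Fi23 → ℂ) ^ 2 - 1) % r = 0 := fun r hr h1 h2 h3 =>
    mod_sq h hr (by rw [hN]; exact h1) (by rw [hN]; exact h2) h3
  refine key _ hm ?_ ?_ ?_
  · intro h7
    refine not_dvd_deg' h (r := 7) (n := 1) (by norm_num) (by rw [hN]; norm_num) (by rw [hN]; norm_num) (g := g)
      (g' := g * i) ?_ ?_ ?_ (by rw [pow_one]; exact Nat.dvd_of_mod_eq_zero h7)
    · rw [g_order]
    · rw [gi_order]; norm_num
    · rw [gi_order, g_order]; norm_num
  · intro h3
    have hc : IsConj x y := conj_of_dvd h Nat.prime_three (Nat.dvd_of_mod_eq_zero h3) ⟨3, y_order⟩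
      (fun m hm => y_rat hm) (lt_of_le_of_lt y_cent (by norm_num)) h4
    have h27 : 27 ≤ cent x := by
      have h5 : orderOf y ∣ cent y := by
        have h6 : orderOf (⟨y, H672.OZ.mem_cent.2 rfl⟩ : Subgroup.centralizer ({y} : Set Fi23)) ∣ cent y :=
          orderOf_dvd_natCard _
        rwa [Subgroup.orderOf_mk] at h6
      rw [H672.OZ.cent_eq_of_conj hc]
      rw [y_order] at h5
      exact Nat.le_of_dvd Nat.card_pos h5
    exact ⟨T 7 (by norm_num) (by norm_num) (by norm_num) (by omega),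
      T 11 (by norm_num) (by norm_num) (by norm_num) (by omega),
      T 13 (by norm_num) (by norm_num) (by norm_num) (by omega),
      T 17 (by norm_num) (by norm_num) (by norm_num) (by omega),
      T 23 (by norm_num) (by norm_num) (by norm_num) (by omega)⟩
  · intro h17
    have hc : cent x = 17 := by
      have hp : Nat.Prime 17 := by norm_num
      have := Fact.mk hp
      obtain ⟨z, hz⟩ := exists_prime_orderOf_dvd_card' (G := Fi23) 17 (by rw [hN]; norm_num)
      rcases H849.OZ.iso hp (by norm_num) (by rw [hN]; norm_num) (by rw [hN]; norm_num) hz (c17 z hz) h h4 with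
        h1 | h1 | h1
      · omega
      · omega
      · exact h1.2.2.1
    exact ⟨T 7 (by norm_num) (by norm_num) (by norm_num) (by omega),
      T 11 (by norm_num) (by norm_num) (by norm_num) (by omega),
      T 13 (by norm_num) (by norm_num) (by norm_num) (by omega)⟩

/-- **`Fi23`.** -/
theorem row_fi23 {S : Type u} [Group S] [Finite S] (_hs : IsSimpleGroup S) (h : Spor.IsoFi23 S) :
    H730.OZ.Row S := by
  obtain ⟨e⟩ := h
  have hfin : Finite Fi23 := H980.PwFi23.finite
  exact H730.OZ.Row.congr e row_fi23'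

end Cfsg.Agent.H492.OZ.FiB
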